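import Mathlib.RingTheory.PowerSeries.Order
import Mathlib.RingTheory.PowerSeries.Inverse
import Mathlib.LinearAlgebra.Dimension.Constructions
import Mathlib.LinearAlgebra.FiniteDimensional.Lemmas

/-!
Conductor and branch lengths of ideals in a subalgebra of a product of power series rings.
-/

set_option autoImplicit false
set_option linter.style.haveILetI false

universe u

noncomputable section

namespace Groth.L02.CurveSing

open PowerSeries

variable {k : Type u} [Field k] {s : ℕ}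

theorem le_order_iff_X_pow_dvd (φ : PowerSeries k) (n : ℕ) : (n : ℕ∞) ≤ φ.order ↔ (X : PowerSeries k) ^ n ∣ φ := by
  rw [X_pow_dvd_iff]
  exact ⟨fun h m hm => coeff_of_lt_order m (lt_of_lt_of_le (by exact_mod_cast hm) h),
    fun h => nat_le_order φ n h⟩

theorem exists_mul_eq_of_order {f g : PowerSeries k} {l c : ℕ} (hf : f.order = (l : ℕ∞))
    (hg : ((l + c : ℕ) : ℕ∞) ≤ g.order) : ∃ h : PowerSeries k, g = f * h ∧ (c : ℕ∞) ≤ h.order := by
  obtain ⟨u, hu⟩ := (le_order_iff_X_pow_dvd f l).1 hf.ge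
  have hu0 : constantCoeff u ≠ 0 := by
    intro h0
    have h1 : ((l + 1 : ℕ) : ℕ∞) ≤ f.order := by
      rw [le_order_iff_X_pow_dvd, hu, pow_succ]
      exact mul_dvd_mul_left _ (X_dvd_iff.2 h0)
    rw [hf] at h1
    exact absurd (Nat.cast_le.1 h1) (by omega)
  obtain ⟨v, hv⟩ := (le_order_iff_X_pow_dvd g (l + c)).1 hg
  refine ⟨u⁻¹ * (X ^ c * v), ?_, ?_⟩
  · rw [hu, hv, pow_add]
    calc X ^ l * X ^ c * v = X ^ l * (X ^ c * v) * (u * u⁻¹) := by rw [PowerSeries.mul_inv_cancel u hu0, mul_one, mul_assoc]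
      _ = X ^ l * u * (u⁻¹ * (X ^ c * v)) := by ring
  · rw [le_order_iff_X_pow_dvd]
    exact Dvd.dvd.mul_left (dvd_mul_right _ _) _

variable (R : Subalgebra k (Fin s → PowerSeries k))

/-- Tuples deep enough lie in the ideal. -/
theorem exists_mem_of_order (c : Fin s → ℕ)
    (hc : ∀ f : Fin s → PowerSeries k,
      (∀ g : Fin s → PowerSeries k, g * f ∈ R) ↔ ∀ i, ((c i : ℕ) : ℕ∞) ≤ (f i).order)
    (J : Ideal ↥R) (l : Fin s → ℕ)
    (hl : ∀ i : Fin s, ∃ f ∈ J, ((f : Fin s → PowerSeries k) i).order = ((l i : ℕ) : ℕ∞))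
    (g : Fin s → PowerSeries k) (hg : ∀ i : Fin s, ((l i + c i : ℕ) : ℕ∞) ≤ (g i).order) :
    ∃ hgR : g ∈ R, (⟨g, hgR⟩ : ↥R) ∈ J := by
  classical
  choose f hfJ hford using hl
  choose h hgh hh using fun i => exists_mul_eq_of_order (hford i) (hg i)
  have hmem : ∀ i, Pi.single i (h i) ∈ R := fun i => by
    have := ((hc (Pi.single i (h i))).2 fun j => ?_) 1
    · rwa [one_mul] at this
    · by_cases hj : j = i
      · subst hj; rw [Pi.single_eq_same]; exact hh j
      · rw [Pi.single_eq_of_ne hj, order_zero]; exact le_top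
  let t : ↥R := ∑ i, f i * ⟨Pi.single i (h i), hmem i⟩
  have ht : (t : Fin s → PowerSeries k) = g := by
    funext j
    rw [show (t : Fin s → PowerSeries k) = ∑ i, (f i : Fin s → PowerSeries k) * Pi.single i (h i) from
      map_sum R.val _ _, Finset.sum_apply, Finset.sum_eq_single j]
    · simp [Pi.single_eq_same, ← hgh j]
    · intro i _ hi; simp [Pi.single_eq_of_ne (Ne.symm hi)]
    · intro hj; exact absurd (Finset.mem_univ j) hj
  refine ⟨ht ▸ t.2, ?_⟩
  have : (⟨g, ht ▸ t.2⟩ : ↥R) = t := Subtype.ext ht.symm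
  rw [this]
  exact J.sum_mem fun i _ => J.mul_mem_right _ (hfJ i)

theorem le_order_of_branch (I : Ideal ↥R) (a : Fin s → ℕ)
    (ha : ∀ i : Fin s, Ideal.map ((Pi.evalAlgHom k (fun _ : Fin s => PowerSeries k) i).comp R.val) I = Ideal.span {X ^ (a i)})
    (f : ↥R) (hf : f ∈ I) (i : Fin s) : ((a i : ℕ) : ℕ∞) ≤ ((f : Fin s → PowerSeries k) i).order := by
  rw [le_order_iff_X_pow_dvd, ← Ideal.mem_span_singleton, ← ha i]
  exact Ideal.mem_map_of_mem _ hf

theorem exists_order_eq_of_branch (I : Ideal ↥R) (a : Fin s → ℕ)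
    (ha : ∀ i : Fin s, Ideal.map ((Pi.evalAlgHom k (fun _ : Fin s => PowerSeries k) i).comp R.val) I = Ideal.span {X ^ (a i)})
    (i : Fin s) : ∃ f ∈ I, ((f : Fin s → PowerSeries k) i).order = ((a i : ℕ) : ℕ∞) := by
  by_contra hcon
  push Not at hcon
  have h1 : Ideal.map ((Pi.evalAlgHom k (fun _ : Fin s => PowerSeries k) i).comp R.val) I ≤ Ideal.span {X ^ (a i + 1)} := by
    rw [Ideal.map_le_iff_le_comap]
    intro f hf
    rw [Ideal.mem_comap, Ideal.mem_span_singleton, ← le_order_iff_X_pow_dvd]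
    have h2 := lt_of_le_of_ne (le_order_of_branch R I a ha f hf i) (Ne.symm (hcon f hf))
    push_cast
    exact Order.add_one_le_of_lt h2
  rw [ha i, Ideal.span_singleton_le_span_singleton] at h1
  exact absurd ((pow_dvd_pow_iff X_ne_zero (X_prime.not_isUnit)).1 h1) (by omega)

/-- Tuples of order at least `n`. -/
def deep (n : Fin s → ℕ) : Submodule k (Fin s → PowerSeries k) where
  carrier := {g | ∀ i, (X : PowerSeries k) ^ n i ∣ g i}
  add_mem' ha hb i := dvd_add (ha i) (hb i)
  zero_mem' i := dvd_zero _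
  smul_mem' c g hg i := by
    rw [Pi.smul_apply, Algebra.smul_def]
    exact (hg i).mul_left _

theorem finrank_quot_deep (n : Fin s → ℕ) :
    Module.finrank k ((Fin s → PowerSeries k) ⧸ deep (k := k) n) = ∑ i, n i ∧
      Module.Finite k ((Fin s → PowerSeries k) ⧸ deep (k := k) n) := by
  classical
  let ψ : (Fin s → PowerSeries k) →ₗ[k] (∀ i : Fin s, Fin (n i) → k) :=
    LinearMap.pi fun i => LinearMap.pi fun m => (PowerSeries.coeff (m : ℕ)).comp (LinearMap.proj i)
  have hψ : Function.Surjective ψ := fun y => by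
    refine ⟨fun i => PowerSeries.mk fun m => if h : m < n i then y i ⟨m, h⟩ else 0, ?_⟩
    funext i m
    simp [ψ, m.2]
  have hker : LinearMap.ker ψ = deep (k := k) n := by
    ext g
    simp only [LinearMap.mem_ker, deep, Submodule.mem_mk, AddSubmonoid.mem_mk, AddSubsemigroup.mem_mk,
      Set.mem_ofPred_eq, X_pow_dvd_iff]
    exact ⟨fun h i m hm => congrFun (congrFun h i) ⟨m, hm⟩, fun h => funext fun i => funext fun m => h i m m.2⟩
  rw [← hker]
  let e := ψ.quotKerEquivOfSurjective hψ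
  refine ⟨?_, Module.Finite.equiv e.symm⟩
  rw [e.finrank_eq, Module.finrank_pi_fintype]
  simp

/-- The bounds between colength, delta invariant and branch lengths. -/
theorem finrank_bounds (c : Fin s → ℕ)
    (hc : ∀ f : Fin s → PowerSeries k,
      (∀ g : Fin s → PowerSeries k, g * f ∈ R) ↔ ∀ i, ((c i : ℕ) : ℕ∞) ≤ (f i).order)
    [Module.Finite k ((Fin s → PowerSeries k) ⧸ Subalgebra.toSubmodule R)]
    (I : Ideal ↥R) (a : Fin s → ℕ)
    (ha : ∀ i : Fin s, Ideal.map ((Pi.evalAlgHom k (fun _ : Fin s => PowerSeries k) i).comp R.val) I = Ideal.span {X ^ (a i)}) :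
    (∑ i, a i) ≤ Module.finrank k (↥R ⧸ I) + Module.finrank k ((Fin s → PowerSeries k) ⧸ Subalgebra.toSubmodule R) ∧
    Module.finrank k (↥R ⧸ I) + Module.finrank k ((Fin s → PowerSeries k) ⧸ Subalgebra.toSubmodule R) ≤ (∑ i, a i) + ∑ i, c i ∧
    (R ≠ ⊤ → Module.finrank k (↥R ⧸ I) + Module.finrank k ((Fin s → PowerSeries k) ⧸ Subalgebra.toSubmodule R) < (∑ i, a i) + ∑ i, c i) := by
  classical
  let V := Fin s → PowerSeries k
  let S : Submodule k V := (I.restrictScalars k).map R.val.toLinearMap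
  let F := deep (k := k) fun i => a i + c i
  let G := deep (k := k) a
  have hFS : F ≤ S := fun g hg => by
    obtain ⟨hgR, hgI⟩ := exists_mem_of_order R c hc I a (exists_order_eq_of_branch R I a ha) g
      (fun i => (le_order_iff_X_pow_dvd _ _).2 (hg i))
    exact ⟨⟨g, hgR⟩, hgI, rfl⟩
  have hSG : S ≤ G := by
    rintro _ ⟨f, hf, rfl⟩ i
    exact (le_order_iff_X_pow_dvd _ _).1 (le_order_of_branch R I a ha f hf i)
  obtain ⟨hG, hGfin⟩ := finrank_quot_deep (k := k) a
  obtain ⟨hF, hFfin⟩ := finrank_quot_deep (k := k) fun i => a i + c i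
  haveI : Module.Finite k (V ⧸ S) := Module.Finite.of_surjective (F.mapQ S LinearMap.id hFS)
    (fun z => by obtain ⟨v, rfl⟩ := Submodule.mkQ_surjective S z; exact ⟨Submodule.Quotient.mk v, rfl⟩)
  have hsum : Module.finrank k (↥R ⧸ I) + Module.finrank k (V ⧸ Subalgebra.toSubmodule R) = Module.finrank k (V ⧸ S) := by
    have hSR : S ≤ Subalgebra.toSubmodule R := by rintro _ ⟨f, -, rfl⟩; exact f.2
    let q : (V ⧸ S) →ₗ[k] V ⧸ Subalgebra.toSubmodule R := S.mapQ _ LinearMap.id hSR
    have hq : Function.Surjective q := fun z => by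
      obtain ⟨v, rfl⟩ := Submodule.mkQ_surjective _ z; exact ⟨Submodule.Quotient.mk v, rfl⟩
    let j : (↥R ⧸ I.restrictScalars k) →ₗ[k] V ⧸ S :=
      (I.restrictScalars k).mapQ S R.val.toLinearMap (fun f hf => ⟨f, hf, rfl⟩)
    have hj : Function.Injective j := by
      rw [← LinearMap.ker_eq_bot, LinearMap.ker_eq_bot']
      intro z hz
      obtain ⟨f, rfl⟩ := Submodule.mkQ_surjective _ z
      obtain ⟨f', hf', he⟩ := (Submodule.Quotient.mk_eq_zero S).1 hz
      rw [Submodule.mkQ_apply, Submodule.Quotient.mk_eq_zero]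
      have : f' = f := Subtype.ext he
      rwa [← this]
    have hrange : LinearMap.ker q = LinearMap.range j := by
      ext z
      obtain ⟨v, rfl⟩ := Submodule.mkQ_surjective S z
      constructor
      · intro hv
        exact ⟨Submodule.Quotient.mk ⟨v, (Submodule.Quotient.mk_eq_zero _).1 hv⟩, rfl⟩
      · rintro ⟨y, hy⟩
        obtain ⟨f, rfl⟩ := Submodule.mkQ_surjective _ y
        rw [← hy]
        exact (Submodule.Quotient.mk_eq_zero _).2 f.2
    rw [← LinearMap.finrank_range_add_finrank_ker q, LinearMap.range_eq_top.2 hq, finrank_top, hrange,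
      LinearMap.finrank_range_of_inj hj, add_comm]
    rfl
  have hle : Module.finrank k (V ⧸ S) ≤ ∑ i, (a i + c i) := hF ▸ LinearMap.finrank_le_finrank_of_surjective
    (f := F.mapQ S LinearMap.id hFS)
    (fun z => by obtain ⟨v, rfl⟩ := Submodule.mkQ_surjective S z; exact ⟨Submodule.Quotient.mk v, rfl⟩)
  rw [Finset.sum_add_distrib] at hle
  refine ⟨?_, hsum ▸ hle, fun hR => ?_⟩
  · rw [hsum, ← hG]
    exact LinearMap.finrank_le_finrank_of_surjective (f := S.mapQ G LinearMap.id hSG)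
      (fun z => by obtain ⟨v, rfl⟩ := Submodule.mkQ_surjective G z; exact ⟨Submodule.Quotient.mk v, rfl⟩)
  · rw [hsum]
    refine lt_of_le_of_ne hle fun heq => hR ?_
    -- equality forces the conductor to be the unit ideal
    let φ := F.mapQ S LinearMap.id hFS
    have hφ : Function.Surjective φ := fun z => by
      obtain ⟨v, rfl⟩ := Submodule.mkQ_surjective S z; exact ⟨Submodule.Quotient.mk v, rfl⟩
    have hinj : Function.Injective φ := (LinearMap.injective_iff_surjective_of_finrank_eq_finrank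
      (by rw [hF, heq, Finset.sum_add_distrib])).2 hφ
    have hSF : S ≤ F := fun v hv => (Submodule.Quotient.mk_eq_zero F).1
      (hinj (by rw [map_zero]; exact (Submodule.Quotient.mk_eq_zero S).2 hv))
    have hc0 : ∀ i, c i = 0 := fun i => by
      obtain ⟨f, hf, hord⟩ := exists_order_eq_of_branch R I a ha i
      have h1 : ((a i + c i : ℕ) : ℕ∞) ≤ _ := (le_order_iff_X_pow_dvd _ _).2 (hSF ⟨f, hf, rfl⟩ i)
      rw [AlgHom.toLinearMap_apply, show R.val f = (f : Fin s → PowerSeries k) from rfl, hord] at h1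
      have := Nat.cast_le.1 h1
      omega
    rw [eq_top_iff]
    intro g _
    have := ((hc 1).2 fun i => by simp [hc0 i]) g
    rwa [mul_one] at this

end Groth.L02.CurveSing
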